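import Mathlib
import Cfsg.Agent.Lib.Helper9.BG1356.Defs
import Cfsg.Agent.S1446
import Cfsg.Agent.Lib.Helper1.MixBase

/-!
Team project S1356 (helper9): package `PkgB` (helper11).

The Frobenius group `D ⋊ R` acts on the `q`-group `Q`; `Q₀ = C_Q(D)`; `Q / Q₀` is abelian of
order `q ^ p` and a chief factor.  Then `D'` centralizes `Q`.
-/

set_option autoImplicit false

namespace Cfsg.Agent.Lib.Helper11.BG1356

open Cfsg
open scoped commutatorElement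

universe u

/-- A subgroup whose elements conjugate `B` into itself lies in the normalizer of `B`. -/
theorem le_normalizer_of_conj {X : Type*} [Group X] (A B : Subgroup X)
    (h : ∀ a ∈ A, ∀ b ∈ B, a * b * a⁻¹ ∈ B) : A ≤ Subgroup.normalizer (B : Set X) := by
  intro a ha
  rw [Subgroup.mem_normalizer_iff]
  intro b
  constructor
  · exact h a ha b
  · intro hb
    have h1 := h a⁻¹ (A.inv_mem ha) _ hb
    have e : a⁻¹ * (a * b * a⁻¹) * a⁻¹⁻¹ = b := by group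
    rwa [e] at h1

/-- The coprime trick: if `d x d⁻¹ = x z` with `z` commuting with `d` and of order coprime to
that of `d`, then `z = 1`. -/
theorem coprime_trick {X : Type*} [Group X] (d x z : X) (hz : d * x * d⁻¹ = x * z)
    (hzd : d * z = z * d) (hcop : Nat.Coprime (orderOf z) (orderOf d)) : z = 1 := by
  have key : ∀ n : ℕ, d ^ n * x * (d ^ n)⁻¹ = x * z ^ n := by
    intro n
    induction n with
    | zero => simp
    | succ n ih =>
      have hzn : d * z ^ n * d⁻¹ = z ^ n := by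
        have hc : Commute d (z ^ n) := (show Commute d z from hzd).pow_right n
        rw [hc.eq, mul_inv_cancel_right]
      calc d ^ (n + 1) * x * (d ^ (n + 1))⁻¹ = d * (d ^ n * x * (d ^ n)⁻¹) * d⁻¹ := by
            rw [pow_succ', mul_inv_rev]; simp only [mul_assoc]
        _ = d * (x * z ^ n) * d⁻¹ := by rw [ih]
        _ = (d * x * d⁻¹) * (d * z ^ n * d⁻¹) := by group
        _ = x * z * z ^ n := by rw [hz, hzn]
        _ = x * z ^ (n + 1) := by rw [pow_succ', mul_assoc]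
  have h1 := key (orderOf d)
  rw [pow_orderOf_eq_one] at h1
  have h2 : z ^ orderOf d = 1 := by
    have h3 : x * z ^ orderOf d = x * 1 := by rw [← h1]; simp
    exact mul_left_cancel h3
  have h3 : orderOf z ∣ orderOf d := orderOf_dvd_of_pow_eq_one h2
  have h4 : orderOf z = 1 := Nat.Coprime.eq_one_of_dvd hcop h3
  exact orderOf_eq_one_iff.mp h4

/-- The image in `X` of a subgroup `H ≤ L` under a homomorphism `φ : L →* X`. -/
def im {G : Type*} [Group G] {X : Type*} [Group X] {L : Subgroup G} (φ : ↥L →* X)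
    (H : Subgroup G) (hH : H ≤ L) : Subgroup X :=
  (φ.comp (Subgroup.inclusion hH)).range

theorem mem_im {G : Type*} [Group G] {X : Type*} [Group X] {L : Subgroup G} (φ : ↥L →* X)
    (H : Subgroup G) (hH : H ≤ L) (x : X) :
    x ∈ im φ H hH ↔ ∃ h, ∃ hh : h ∈ H, φ ⟨h, hH hh⟩ = x := by
  constructor
  · rintro ⟨⟨h, hh⟩, rfl⟩
    exact ⟨h, hh, rfl⟩
  · rintro ⟨h, hh, rfl⟩
    exact ⟨⟨h, hh⟩, rfl⟩

theorem mk_mem_im {G : Type*} [Group G] {X : Type*} [Group X] {L : Subgroup G} (φ : ↥L →* X)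
    (H : Subgroup G) (hH : H ≤ L) (h : G) (hh : h ∈ H) : φ ⟨h, hH hh⟩ ∈ im φ H hH :=
  ⟨⟨h, hh⟩, rfl⟩

theorem im_le_normalizer {G : Type*} [Group G] {X : Type*} [Group X] {L : Subgroup G}
    (φ : ↥L →* X) (A B : Subgroup G) (hA : A ≤ L) (hB : B ≤ L)
    (h : ∀ a ∈ A, ∀ b ∈ B, a * b * a⁻¹ ∈ B) :
    im φ A hA ≤ Subgroup.normalizer (im φ B hB : Set X) := by
  apply le_normalizer_of_conj
  intro x hx y hy
  obtain ⟨a, ha, rfl⟩ := (mem_im φ A hA x).mp hx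
  obtain ⟨b, hb, rfl⟩ := (mem_im φ B hB y).mp hy
  have e : φ ⟨a, hA ha⟩ * φ ⟨b, hB hb⟩ * (φ ⟨a, hA ha⟩)⁻¹
      = φ ⟨a * b * a⁻¹, hB (h a ha b hb)⟩ := by
    rw [← map_inv, ← map_mul, ← map_mul]
    exact congrArg φ (Subtype.ext rfl)
  rw [e]
  exact mk_mem_im φ B hB _ (h a ha b hb)

theorem card_im_of_inj {G : Type*} [Group G] {X : Type*} [Group X] {L : Subgroup G}
    (φ : ↥L →* X) (H : Subgroup G) (hH : H ≤ L)
    (hinj : ∀ h, ∀ hh : h ∈ H, φ ⟨h, hH hh⟩ = 1 → h = 1) :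
    Nat.card (im φ H hH) = Nat.card H := by
  have hi : Function.Injective (φ.comp (Subgroup.inclusion hH)) := by
    rw [injective_iff_map_eq_one]
    intro a ha
    exact Subtype.ext (hinj a.1 a.2 ha)
  exact (Nat.card_congr (MonoidHom.ofInjective hi).toEquiv).symm

theorem card_im_mul {G : Type*} [Group G] {X : Type*} [Group X] {L : Subgroup G}
    (φ : ↥L →* X) (H : Subgroup G) (hH : H ≤ L) (Q0 : Subgroup G) (hQ0 : Q0 ≤ H)
    (hker : ∀ a : ↥L, φ a = 1 ↔ (a : G) ∈ Q0) :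
    Nat.card Q0 * Nat.card (im φ H hH) = Nat.card H := by
  have h1 : (φ.comp (Subgroup.inclusion hH)).ker = Q0.subgroupOf H := by
    ext a
    rw [MonoidHom.mem_ker, Subgroup.mem_subgroupOf]
    exact hker _
  have h2 := Subgroup.card_mul_index (φ.comp (Subgroup.inclusion hH)).ker
  rw [Subgroup.index_ker, h1] at h2
  rw [← h2]
  congr 1
  exact (Nat.card_congr (Subgroup.subgroupOfEquivOfLe hQ0).toEquiv).symm

theorem pkgB_core {G : Type u} [Group G] [Finite G] (Q D R L : Subgroup G) (p q : ℕ)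
    (hodd : Odd (Nat.card G)) (hp : p.Prime) (hq : q.Prime) (hpq : p ≠ q)
    (hQL : Q ≤ L) (hDL : D ≤ L) (hRL : R ≤ L) (hLle : L ≤ Q ⊔ D ⊔ R)
    (hsolv : Group.IsSolvable ↥L)
    (hQ : IsPGroup q Q)
    (hDQ : D ≤ Subgroup.normalizer (Q : Set G)) (hRQ : R ≤ Subgroup.normalizer (Q : Set G))
    (hRD : R ≤ Subgroup.normalizer (D : Set G))
    (hRcard : Nat.card R = p) (hqD : ¬ q ∣ Nat.card D) (hpD : ¬ p ∣ Nat.card D)
    (hCDR : D ⊓ Subgroup.centralizer (R : Set G) = ⊥)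
    (hQ0lt : Q ⊓ Subgroup.centralizer (D : Set G) < Q)
    (hcard : Nat.card Q = Nat.card ↥(Q ⊓ Subgroup.centralizer (D : Set G)) * q ^ p)
    (hcomm : ∀ a ∈ Q, ∀ b ∈ Q, a * b * a⁻¹ * b⁻¹ ∈ Q ⊓ Subgroup.centralizer (D : Set G))
    (hmin : ∀ N : Subgroup G, Q ⊓ Subgroup.centralizer (D : Set G) < N → N < Q →
      ¬ (L ≤ Subgroup.normalizer (N : Set G)))
    {X : Type u} [Group X] [Finite X] (φ : ↥L →* X)
    (hker : ∀ a : ↥L, φ a = 1 ↔ (a : G) ∈ Q ⊓ Subgroup.centralizer (D : Set G)) :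
    ⁅D, D⁆ ≤ Subgroup.centralizer (Q : Set G) := by
  classical
  haveI : Fact p.Prime := ⟨hp⟩
  haveI : Fact q.Prime := ⟨hq⟩
  set Q0 : Subgroup G := Q ⊓ Subgroup.centralizer (D : Set G) with hQ0def
  have hQ0Q : Q0 ≤ Q := inf_le_left
  have hQ0C : Q0 ≤ Subgroup.centralizer (D : Set G) := inf_le_right
  have hDQc : ∀ d ∈ D, ∀ x ∈ Q, d * x * d⁻¹ ∈ Q := fun d hd x hx =>
    (Subgroup.mem_normalizer_iff.mp (hDQ hd) x).mp hx
  have hRQc : ∀ r ∈ R, ∀ x ∈ Q, r * x * r⁻¹ ∈ Q := fun r hr x hx =>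
    (Subgroup.mem_normalizer_iff.mp (hRQ hr) x).mp hx
  have hRDc : ∀ r ∈ R, ∀ d ∈ D, r * d * r⁻¹ ∈ D := fun r hr d hd =>
    (Subgroup.mem_normalizer_iff.mp (hRD hr) d).mp hd
  obtain ⟨n, hn⟩ := IsPGroup.iff_card.mp hQ
  have hcopqD : Nat.Coprime q (Nat.card D) := (Nat.Prime.coprime_iff_not_dvd hq).mpr hqD
  have hQD : ∀ d ∈ D, d ∈ Q → d = 1 := by
    intro d hd hdQ
    have h1 : Q ⊓ D = ⊥ := Subgroup.inf_eq_bot_of_coprime (by
      rw [hn]; exact Nat.Coprime.pow_left n hcopqD)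
    have h2 : d ∈ Q ⊓ D := ⟨hdQ, hd⟩
    rw [h1] at h2
    exact Subgroup.mem_bot.mp h2
  have hQR : ∀ r ∈ R, r ∈ Q → r = 1 := by
    intro r hr hrQ
    have h1 : Q ⊓ R = ⊥ := Subgroup.inf_eq_bot_of_coprime (by
      rw [hn, hRcard]; exact Nat.Coprime.pow_left n ((Nat.coprime_primes hq hp).mpr (Ne.symm hpq)))
    have h2 : r ∈ Q ⊓ R := ⟨hrQ, hr⟩
    rw [h1] at h2
    exact Subgroup.mem_bot.mp h2
  -- the images
  set K : Subgroup X := im φ D hDL with hKdef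
  set Rb : Subgroup X := im φ R hRL with hRbdef
  set M : Subgroup X := im φ Q hQL with hMdef
  have hcK : Nat.card K = Nat.card D :=
    card_im_of_inj φ D hDL (fun d hd h1 => hQD d hd (hQ0Q ((hker _).mp h1)))
  have hcR : Nat.card Rb = p := by
    rw [← hRcard]
    exact card_im_of_inj φ R hRL (fun r hr h1 => hQR r hr (hQ0Q ((hker _).mp h1)))
  have hcM : Nat.card M = q ^ p := by
    have h1 := card_im_mul φ Q hQL Q0 hQ0Q hker
    rw [hcard] at h1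
    have hpos : 0 < Nat.card Q0 := Nat.card_pos
    exact Nat.eq_of_mul_eq_mul_left hpos h1
  -- the key commutation lemma
  have hkey : ∀ d (hd : d ∈ D), ∀ x (hx : x ∈ Q),
      φ ⟨d, hDL hd⟩ * φ ⟨x, hQL hx⟩ = φ ⟨x, hQL hx⟩ * φ ⟨d, hDL hd⟩ → d * x = x * d := by
    intro d hd x hx hc
    have hzL : x⁻¹ * d * x * d⁻¹ ∈ L :=
      L.mul_mem (L.mul_mem (L.mul_mem (L.inv_mem (hQL hx)) (hDL hd)) (hQL hx))
        (L.inv_mem (hDL hd))
    have hφz : φ ⟨x⁻¹ * d * x * d⁻¹, hzL⟩ = 1 := by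
      have e : (⟨x⁻¹ * d * x * d⁻¹, hzL⟩ : ↥L)
          = (⟨x, hQL hx⟩ : ↥L)⁻¹ * ⟨d, hDL hd⟩ * ⟨x, hQL hx⟩ * (⟨d, hDL hd⟩ : ↥L)⁻¹ :=
        Subtype.ext rfl
      rw [e]
      simp only [map_mul, map_inv]
      calc (φ ⟨x, hQL hx⟩)⁻¹ * φ ⟨d, hDL hd⟩ * φ ⟨x, hQL hx⟩ * (φ ⟨d, hDL hd⟩)⁻¹
          = (φ ⟨x, hQL hx⟩)⁻¹ * (φ ⟨d, hDL hd⟩ * φ ⟨x, hQL hx⟩) * (φ ⟨d, hDL hd⟩)⁻¹ := by
            group
        _ = 1 := by rw [hc]; group
    have hzQ0 : x⁻¹ * d * x * d⁻¹ ∈ Q0 := (hker _).mp hφz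
    have hdz : d * (x⁻¹ * d * x * d⁻¹) = (x⁻¹ * d * x * d⁻¹) * d :=
      Subgroup.mem_centralizer_iff.mp (hQ0C hzQ0) d hd
    have hz1 : x⁻¹ * d * x * d⁻¹ = 1 := by
      apply coprime_trick d x _ (by group) hdz
      have h1 : orderOf (x⁻¹ * d * x * d⁻¹) ∣ q ^ n := by
        have h2 := orderOf_dvd_natCard (⟨x⁻¹ * d * x * d⁻¹, hQ0Q hzQ0⟩ : ↥Q)
        rw [hn] at h2
        rwa [Subgroup.orderOf_mk] at h2
      have h2 : orderOf d ∣ Nat.card D := by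
        have h3 := orderOf_dvd_natCard (⟨d, hd⟩ : ↥D)
        rwa [Subgroup.orderOf_mk] at h3
      exact Nat.Coprime.coprime_dvd_left h1
        (Nat.Coprime.coprime_dvd_right h2 (Nat.Coprime.pow_left n hcopqD))
    calc d * x = x * (x⁻¹ * d * x * d⁻¹) * d := by group
      _ = x * d := by rw [hz1, mul_one]
  -- hypotheses of S1446
  have hK1 : K ≠ ⊥ := by
    intro h
    have h1 : Nat.card K = 1 := by rw [h]; exact Subgroup.card_bot
    rw [hcK] at h1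
    have hD1 : D = ⊥ := Subgroup.card_eq_one.mp h1
    apply hQ0lt.ne
    apply le_antisymm hQ0Q
    intro x hx
    refine Subgroup.mem_inf.mpr ⟨hx, ?_⟩
    rw [Subgroup.mem_centralizer_iff]
    intro d hd
    rw [hD1] at hd
    have hd1 : d = 1 := Subgroup.mem_bot.mp (SetLike.mem_coe.mp hd)
    rw [hd1, one_mul, mul_one]
  have hR1 : Rb ≠ ⊥ := by
    intro h
    have h1 : Nat.card Rb = 1 := by rw [h]; exact Subgroup.card_bot
    rw [hcR] at h1
    exact hp.one_lt.ne' h1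
  have hKR : K ⊓ Rb = ⊥ := Subgroup.inf_eq_bot_of_coprime (by
    rw [hcK, hcR]; exact ((Nat.Prime.coprime_iff_not_dvd hp).mpr hpD).symm)
  have hRK : Rb ≤ Subgroup.normalizer (K : Set X) := im_le_normalizer φ R D hRL hDL hRDc
  have hKM : K ≤ Subgroup.normalizer (M : Set X) := im_le_normalizer φ D Q hDL hQL hDQc
  have hRM : Rb ≤ Subgroup.normalizer (M : Set X) := im_le_normalizer φ R Q hRL hQL hRQc
  have hfrob : ∀ r ∈ Rb, r ≠ 1 → K ⊓ Subgroup.centralizer ({r} : Set X) = ⊥ := by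
    intro rb hrb hrb1
    obtain ⟨r, hr, rfl⟩ := (mem_im φ R hRL rb).mp hrb
    rw [eq_bot_iff]
    intro k hk
    obtain ⟨hkK, hkC⟩ := Subgroup.mem_inf.mp hk
    obtain ⟨d, hd, rfl⟩ := (mem_im φ D hDL k).mp hkK
    rw [Subgroup.mem_bot]
    have hc : φ ⟨r, hRL hr⟩ * φ ⟨d, hDL hd⟩ = φ ⟨d, hDL hd⟩ * φ ⟨r, hRL hr⟩ :=
      Subgroup.mem_centralizer_iff.mp hkC _ (Set.mem_singleton _)
    have hwD : d⁻¹ * (r * d * r⁻¹) ∈ D := D.mul_mem (D.inv_mem hd) (hRDc r hr d hd)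
    have hφw : φ ⟨d⁻¹ * (r * d * r⁻¹), hDL hwD⟩ = 1 := by
      have e : (⟨d⁻¹ * (r * d * r⁻¹), hDL hwD⟩ : ↥L)
          = (⟨d, hDL hd⟩ : ↥L)⁻¹ * (⟨r, hRL hr⟩ * ⟨d, hDL hd⟩ * (⟨r, hRL hr⟩ : ↥L)⁻¹) :=
        Subtype.ext rfl
      rw [e]
      simp only [map_mul, map_inv]
      rw [hc]
      group
    have hw1 : d⁻¹ * (r * d * r⁻¹) = 1 := hQD _ hwD (hQ0Q ((hker _).mp hφw))
    have hrd : r * d = d * r := by
      calc r * d = d * (d⁻¹ * (r * d * r⁻¹)) * r := by group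
        _ = d * r := by rw [hw1, mul_one]
    have hr1 : r ≠ 1 := by
      intro h
      apply hrb1
      have h2 : (⟨r, hRL hr⟩ : ↥L) = 1 := Subtype.ext h
      rw [h2, map_one]
    have hdC : d ∈ Subgroup.centralizer (R : Set G) := by
      rw [Subgroup.mem_centralizer_iff]
      intro r' hr'
      have hmem : (⟨r', hr'⟩ : ↥R) ∈ Subgroup.zpowers (⟨r, hr⟩ : ↥R) :=
        mem_zpowers_of_prime_card hRcard (fun h => hr1 (congrArg Subtype.val h))
      obtain ⟨k, hk⟩ := Subgroup.mem_zpowers_iff.mp hmem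
      have hk' : r ^ k = r' := by
        have h3 := congrArg Subtype.val hk
        simpa using h3
      rw [← hk']
      exact ((show Commute r d from hrd).zpow_left k).eq
    have hd1 : d = 1 := by
      have h3 : d ∈ D ⊓ Subgroup.centralizer (R : Set G) := ⟨hd, hdC⟩
      rw [hCDR] at h3
      exact Subgroup.mem_bot.mp h3
    have h4 : (⟨d, hDL hd⟩ : ↥L) = 1 := Subtype.ext hd1
    rw [h4, map_one]
  have hle : K ⊔ Rb ≤ φ.range := by
    apply sup_le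
    · intro x hx
      obtain ⟨d, hd, rfl⟩ := (mem_im φ D hDL x).mp hx
      exact ⟨_, rfl⟩
    · intro x hx
      obtain ⟨d, hd, rfl⟩ := (mem_im φ R hRL x).mp hx
      exact ⟨_, rfl⟩
  have hsolvKR : Group.IsSolvable ↥(K ⊔ Rb) := by
    haveI : Group.IsSolvable ↥φ.range :=
      solvable_of_surjective (f := φ.rangeRestrict) φ.rangeRestrict_surjective
    exact solvable_of_solvable_injective (Subgroup.inclusion_injective hle)
  have hoddKR : Odd (Nat.card ↥(K ⊔ Rb)) := by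
    have h1 : Nat.card ↥(K ⊔ Rb) ∣ Nat.card ↥φ.range := Subgroup.card_dvd_of_le hle
    have h2 : Nat.card ↥φ.range ∣ Nat.card ↥L := Subgroup.card_range_dvd φ
    have h3 : Nat.card ↥L ∣ Nat.card G := Subgroup.card_subgroup_dvd_card L
    exact Odd.of_dvd_nat hodd (h1.trans (h2.trans h3))
  have hM1 : M ≠ ⊥ := by
    intro h
    have h1 : Nat.card M = 1 := by rw [h]; exact Subgroup.card_bot
    rw [hcM] at h1
    exact (Nat.one_lt_pow hp.ne_zero hq.one_lt).ne' h1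
  have hMn : Group.IsNilpotent ↥M := (IsPGroup.of_card hcM).isNilpotent
  have hcop : (Nat.card ↥(K ⊔ Rb)).Coprime (Nat.card ↥M) := by
    rw [hcM]
    apply Nat.Coprime.pow_right
    have h1 : Nat.card ↥(Rb ⊔ K) ∣ Nat.card Rb * Nat.card K :=
      Cfsg.Agent.Lib.Helper1.Mix.card_sup_dvd Rb K hRK
    rw [sup_comm, hcR, hcK] at h1
    exact Nat.Coprime.coprime_dvd_left h1
      (Nat.Coprime.mul_left ((Nat.coprime_primes hp hq).mpr hpq) hcopqD.symm)
  have hpr : ∀ x ∈ Rb, x ≠ 1 →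
      M ⊓ Subgroup.centralizer ({x} : Set X) = M ⊓ Subgroup.centralizer (Rb : Set X) := by
    intro x hx hx1
    congr 1
    apply le_antisymm
    · intro y hy
      rw [Subgroup.mem_centralizer_iff] at hy ⊢
      intro r' hr'
      have hmem : (⟨r', hr'⟩ : ↥Rb) ∈ Subgroup.zpowers (⟨x, hx⟩ : ↥Rb) :=
        mem_zpowers_of_prime_card hcR (fun h => hx1 (congrArg Subtype.val h))
      obtain ⟨k, hk⟩ := Subgroup.mem_zpowers_iff.mp hmem
      have hk' : x ^ k = r' := by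
        have h3 := congrArg Subtype.val hk
        simpa using h3
      rw [← hk']
      exact ((show Commute x y from hy x (Set.mem_singleton x)).zpow_left k).eq
    · exact Subgroup.centralizer_le (Set.singleton_subset_iff.mpr hx)
  have hMcomm : ∀ a ∈ M, ∀ b ∈ M, a * b = b * a := by
    intro a ha b hb
    obtain ⟨a', ha', rfl⟩ := (mem_im φ Q hQL a).mp ha
    obtain ⟨b', hb', rfl⟩ := (mem_im φ Q hQL b).mp hb
    have h1 : φ (⟨a', hQL ha'⟩ * ⟨b', hQL hb'⟩ * ⟨a', hQL ha'⟩⁻¹ * ⟨b', hQL hb'⟩⁻¹) = 1 :=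
      (hker _).mpr (hcomm a' ha' b' hb')
    simp only [map_mul, map_inv] at h1
    calc φ ⟨a', hQL ha'⟩ * φ ⟨b', hQL hb'⟩
        = (φ ⟨a', hQL ha'⟩ * φ ⟨b', hQL hb'⟩ * (φ ⟨a', hQL ha'⟩)⁻¹ * (φ ⟨b', hQL hb'⟩)⁻¹)
            * (φ ⟨b', hQL hb'⟩ * φ ⟨a', hQL ha'⟩) := by group
      _ = φ ⟨b', hQL hb'⟩ * φ ⟨a', hQL ha'⟩ := by rw [h1, one_mul]
  have hCK : M ⊓ Subgroup.centralizer (K : Set X) = ⊥ := by
    set N : Subgroup G :=
      ((M ⊓ Subgroup.centralizer (K : Set X)).comap φ).map L.subtype with hNdef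
    have hmemN : ∀ x, x ∈ N ↔
        ∃ hx : x ∈ L, φ ⟨x, hx⟩ ∈ M ⊓ Subgroup.centralizer (K : Set X) := by
      intro x
      constructor
      · rintro ⟨y, hy, rfl⟩
        exact ⟨y.2, hy⟩
      · rintro ⟨hx, h⟩
        exact ⟨⟨x, hx⟩, h, rfl⟩
    have hQ0N : Q0 ≤ N := by
      intro x hx
      rw [hmemN]
      refine ⟨hQL (hQ0Q hx), ?_⟩
      rw [(hker _).mpr hx]
      exact Subgroup.one_mem _
    have hNQ : N ≤ Q := by
      intro x hx
      obtain ⟨hxL, hxMC⟩ := (hmemN x).mp hx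
      obtain ⟨y, hy, hyx⟩ := (mem_im φ Q hQL _).mp (Subgroup.mem_inf.mp hxMC).1
      have h1 : φ ((⟨y, hQL hy⟩ : ↥L)⁻¹ * ⟨x, hxL⟩) = 1 := by
        rw [map_mul, map_inv, hyx, inv_mul_cancel]
      have h2 : y⁻¹ * x ∈ Q0 := (hker _).mp h1
      have h3 := Q.mul_mem hy (hQ0Q h2)
      rwa [mul_inv_cancel_left] at h3
    have hNn : ∀ g (hg : g ∈ L),
        (∀ c ∈ M ⊓ Subgroup.centralizer (K : Set X),
          φ ⟨g, hg⟩ * c * (φ ⟨g, hg⟩)⁻¹ ∈ M ⊓ Subgroup.centralizer (K : Set X)) →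
        ∀ x ∈ N, g * x * g⁻¹ ∈ N := by
      intro g hg h x hx
      obtain ⟨hxL, hxC⟩ := (hmemN x).mp hx
      rw [hmemN]
      refine ⟨L.mul_mem (L.mul_mem hg hxL) (L.inv_mem hg), ?_⟩
      have e : (⟨g * x * g⁻¹, L.mul_mem (L.mul_mem hg hxL) (L.inv_mem hg)⟩ : ↥L)
          = ⟨g, hg⟩ * ⟨x, hxL⟩ * (⟨g, hg⟩ : ↥L)⁻¹ := Subtype.ext rfl
      rw [e, map_mul, map_mul, map_inv]
      exact h _ hxC
    have hQn : ∀ g ∈ Q, ∀ x ∈ N, g * x * g⁻¹ ∈ N := by
      intro g hg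
      apply hNn g (hQL hg)
      intro c hc
      have hgM : φ ⟨g, hQL hg⟩ ∈ M := mk_mem_im φ Q hQL g hg
      have e : φ ⟨g, hQL hg⟩ * c * (φ ⟨g, hQL hg⟩)⁻¹ = c := by
        rw [hMcomm _ hgM c (Subgroup.mem_inf.mp hc).1, mul_inv_cancel_right]
      rw [e]
      exact hc
    have hnormC : ∀ g : X, g ∈ Subgroup.normalizer (K : Set X) →
        g ∈ Subgroup.normalizer (M : Set X) →
        ∀ c ∈ M ⊓ Subgroup.centralizer (K : Set X),
          g * c * g⁻¹ ∈ M ⊓ Subgroup.centralizer (K : Set X) := by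
      intro g hgK hgM c hc
      obtain ⟨hcM', hcC⟩ := Subgroup.mem_inf.mp hc
      refine Subgroup.mem_inf.mpr ⟨(Subgroup.mem_normalizer_iff.mp hgM c).mp hcM', ?_⟩
      rw [Subgroup.mem_centralizer_iff]
      intro k hk
      have hk' : g⁻¹ * k * g ∈ K := by
        apply (Subgroup.mem_normalizer_iff.mp hgK (g⁻¹ * k * g)).mpr
        have e : g * (g⁻¹ * k * g) * g⁻¹ = k := by group
        rw [e]
        exact hk
      have hcomm' : (g⁻¹ * k * g) * c = c * (g⁻¹ * k * g) :=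
        Subgroup.mem_centralizer_iff.mp hcC _ hk'
      calc k * (g * c * g⁻¹) = g * ((g⁻¹ * k * g) * c) * g⁻¹ := by group
        _ = g * (c * (g⁻¹ * k * g)) * g⁻¹ := by rw [hcomm']
        _ = g * c * g⁻¹ * k := by group
    have hDn : ∀ g ∈ D, ∀ x ∈ N, g * x * g⁻¹ ∈ N := by
      intro g hg
      apply hNn g (hDL hg)
      exact hnormC _ (Subgroup.le_normalizer (mk_mem_im φ D hDL g hg))
        (hKM (mk_mem_im φ D hDL g hg))
    have hRn : ∀ g ∈ R, ∀ x ∈ N, g * x * g⁻¹ ∈ N := by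
      intro g hg
      apply hNn g (hRL hg)
      exact hnormC _ (hRK (mk_mem_im φ R hRL g hg)) (hRM (mk_mem_im φ R hRL g hg))
    have hLN : L ≤ Subgroup.normalizer (N : Set G) :=
      hLle.trans (sup_le (sup_le (le_normalizer_of_conj Q N hQn)
        (le_normalizer_of_conj D N hDn)) (le_normalizer_of_conj R N hRn))
    have hNeq : N = Q0 ∨ N = Q := by
      by_contra hcon
      push_neg at hcon
      exact hmin N (lt_of_le_of_ne hQ0N (Ne.symm hcon.1)) (lt_of_le_of_ne hNQ hcon.2) hLN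
    rcases hNeq with hN | hN
    · rw [eq_bot_iff]
      intro x hx
      obtain ⟨y, hy, rfl⟩ := (mem_im φ Q hQL x).mp (Subgroup.mem_inf.mp hx).1
      have hyN : y ∈ N := (hmemN y).mpr ⟨hQL hy, hx⟩
      rw [hN] at hyN
      rw [Subgroup.mem_bot]
      exact (hker _).mpr hyN
    · exfalso
      apply hQ0lt.ne
      apply le_antisymm hQ0Q
      intro x hx
      refine Subgroup.mem_inf.mpr ⟨hx, ?_⟩
      rw [Subgroup.mem_centralizer_iff]
      intro d hd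
      have hxN : x ∈ N := by rw [hN]; exact hx
      obtain ⟨hxL, hxMC⟩ := (hmemN x).mp hxN
      have h5 := Subgroup.mem_centralizer_iff.mp (Subgroup.mem_inf.mp hxMC).2 _
        (mk_mem_im φ D hDL d hd)
      exact hkey d hd x hx h5
  obtain ⟨-, hcardM, hcyc⟩ := Cfsg.Agent.S1446.result K Rb M hK1 hR1 hKR hRK hfrob hsolvKR
    hoddKR hM1 hMn hKM hRM hcop hCK hpr
  have hq' : Nat.card ↥(M ⊓ Subgroup.centralizer (Rb : Set X)) = q := by
    rw [hcM, hcR] at hcardM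
    exact (Nat.pow_left_injective hp.ne_zero hcardM).symm
  haveI : IsCyclic ↥(M ⊓ Subgroup.centralizer (Rb : Set X)) := isCyclic_of_prime_card hq'
  have hKK := hcyc inferInstance
  rw [Subgroup.commutator_le]
  intro a ha b hb
  rw [Subgroup.mem_centralizer_iff]
  intro x hx
  have habD : ⁅a, b⁆ ∈ D := by
    rw [commutatorElement_def]
    exact D.mul_mem (D.mul_mem (D.mul_mem ha hb) (D.inv_mem ha)) (D.inv_mem hb)
  have hφ : φ ⟨⁅a, b⁆, hDL habD⟩ = ⁅φ ⟨a, hDL ha⟩, φ ⟨b, hDL hb⟩⁆ := by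
    have e : (⟨⁅a, b⁆, hDL habD⟩ : ↥L) = ⁅(⟨a, hDL ha⟩ : ↥L), ⟨b, hDL hb⟩⁆ := Subtype.ext rfl
    rw [e, map_commutatorElement]
  have hmemKK : φ ⟨⁅a, b⁆, hDL habD⟩ ∈ ⁅K, K⁆ := by
    rw [hφ]
    exact Subgroup.commutator_mem_commutator (mk_mem_im φ D hDL a ha) (mk_mem_im φ D hDL b hb)
  have hc := Subgroup.mem_centralizer_iff.mp (hKK hmemKK) _ (mk_mem_im φ Q hQL x hx)
  exact (hkey _ habD x hx hc.symm).symm

theorem pkgB : Cfsg.Agent.Lib.Helper9.BG1356.PkgB.{u} := by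
  intro G _ _ Q D R p q hodd hp hq hpq hsolv hQ hDQ hRQ hRD hRcard hqD hpD hCDR hQ0lt hcard
    hcomm hmin
  have hQ0Q : Q ⊓ Subgroup.centralizer (D : Set G) ≤ Q := inf_le_left
  have hnQ : ∀ a ∈ Q, ∀ b ∈ Q ⊓ Subgroup.centralizer (D : Set G),
      a * b * a⁻¹ ∈ Q ⊓ Subgroup.centralizer (D : Set G) := by
    intro a ha b hb
    have h1 := hcomm a ha b (hQ0Q hb)
    have h2 := (Q ⊓ Subgroup.centralizer (D : Set G)).mul_mem h1 hb
    rwa [inv_mul_cancel_right] at h2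
  have hnD : ∀ d ∈ D, ∀ b ∈ Q ⊓ Subgroup.centralizer (D : Set G),
      d * b * d⁻¹ ∈ Q ⊓ Subgroup.centralizer (D : Set G) := by
    intro d hd b hb
    have h1 : d * b = b * d := Subgroup.mem_centralizer_iff.mp (Subgroup.mem_inf.mp hb).2 d hd
    rw [h1, mul_inv_cancel_right]
    exact hb
  have hnR : ∀ r ∈ R, ∀ b ∈ Q ⊓ Subgroup.centralizer (D : Set G),
      r * b * r⁻¹ ∈ Q ⊓ Subgroup.centralizer (D : Set G) := by
    intro r hr b hb
    obtain ⟨hbQ, hbC⟩ := Subgroup.mem_inf.mp hb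
    refine Subgroup.mem_inf.mpr ⟨(Subgroup.mem_normalizer_iff.mp (hRQ hr) b).mp hbQ, ?_⟩
    rw [Subgroup.mem_centralizer_iff]
    intro d hd
    have hd' : r⁻¹ * d * r ∈ D := by
      have h1 := (Subgroup.mem_normalizer_iff.mp (hRD (R.inv_mem hr)) d).mp hd
      rwa [inv_inv] at h1
    have h2 : (r⁻¹ * d * r) * b = b * (r⁻¹ * d * r) :=
      Subgroup.mem_centralizer_iff.mp hbC _ hd'
    calc d * (r * b * r⁻¹) = r * ((r⁻¹ * d * r) * b) * r⁻¹ := by group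
      _ = r * (b * (r⁻¹ * d * r)) * r⁻¹ := by rw [h2]
      _ = r * b * r⁻¹ * d := by group
  have hLN : Q ⊔ D ⊔ R ≤ Subgroup.normalizer
      ((Q ⊓ Subgroup.centralizer (D : Set G) : Subgroup G) : Set G) :=
    sup_le (sup_le (le_normalizer_of_conj Q _ hnQ) (le_normalizer_of_conj D _ hnD))
      (le_normalizer_of_conj R _ hnR)
  haveI hnorm : ((Q ⊓ Subgroup.centralizer (D : Set G)).subgroupOf (Q ⊔ D ⊔ R)).Normal := by
    constructor
    intro n hn g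
    rw [Subgroup.mem_subgroupOf] at hn ⊢
    exact (Subgroup.mem_normalizer_iff.mp (hLN g.2) n).mp hn
  exact pkgB_core Q D R (Q ⊔ D ⊔ R) p q hodd hp hq hpq (le_sup_of_le_left le_sup_left)
    (le_sup_of_le_left le_sup_right) le_sup_right le_rfl hsolv hQ hDQ hRQ hRD hRcard hqD hpD
    hCDR hQ0lt hcard hcomm hmin
    (QuotientGroup.mk' ((Q ⊓ Subgroup.centralizer (D : Set G)).subgroupOf (Q ⊔ D ⊔ R)))
    (fun a => by
      rw [QuotientGroup.mk'_apply, QuotientGroup.eq_one_iff, Subgroup.mem_subgroupOf])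

end Cfsg.Agent.Lib.Helper11.BG1356
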